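import Cfsg.Agent.H277.EM.Cover
import Cfsg.Agent.H211.Unf.PSpEven
import Cfsg.Agent.LieClassical.FieldTransfer
import Cfsg.Agent.S2092
import Cfsg.Agent.S2093

/-!
# S2243: the rows `PSp_{2m}(q)`, `q` even (helper682)

* `em_sp` : the Siegel radical meets every class of involutions;
* `crow_six` : the double cover of `Sp₆(2)`: either all involutions lift, or exactly the classes `a₂` and `b₃` lift;
* `crow_psp_even`.
-/

set_option autoImplicit false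
set_option linter.style.haveILetI false

namespace Cfsg.Agent.H682.EM

open Subgroup Matrix Cfsg.Agent.H51.Mult Cfsg.Agent.H277.MI Cfsg.Agent.H211.UnfSp
open scoped Matrix

universe u v

/-! ### the subgroup generated by two commuting involutions -/

/-- `{1, a, b, a b}` -/
def fourGroup {G : Type*} [Group G] (a b : G) (ha : a * a = 1) (hb : b * b = 1) (hab : b * a = a * b) : Subgroup G where
  carrier := {x | x = 1 ∨ x = a ∨ x = b ∨ x = a * b}
  one_mem' := Or.inl rfl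
  mul_mem' := by
    have h1 : a * (a * b) = b := by rw [← mul_assoc, ha, one_mul]
    have h2 : a * b * a = b := by rw [mul_assoc, hab, h1]
    have h3 : a * b * b = a := by rw [mul_assoc, hb, mul_one]
    have h4 : b * (a * b) = a := by rw [← mul_assoc, hab, h3]
    have h5 : a * b * (a * b) = 1 := by rw [← mul_assoc, h2, hb]
    rintro x y (rfl | rfl | rfl | rfl) (rfl | rfl | rfl | rfl) <;> simp only [one_mul, mul_one, ha, hb, hab, h1, h2, h3, h4, h5,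
      Set.mem_ofPred_eq, true_or, or_true]
  inv_mem' := by
    have ha' : a⁻¹ = a := inv_eq_of_mul_eq_one_left ha
    have hb' : b⁻¹ = b := inv_eq_of_mul_eq_one_left hb
    rintro x (rfl | rfl | rfl | rfl)
    · exact Or.inl inv_one
    · exact Or.inr (Or.inl ha')
    · exact Or.inr (Or.inr (Or.inl hb'))
    · exact Or.inr (Or.inr (Or.inr (by rw [_root_.mul_inv_rev, ha', hb', hab])))

theorem mem_fourGroup {G : Type*} [Group G] {a b : G} {ha : a * a = 1} {hb : b * b = 1} {hab : b * a = a * b} {x : G} :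
    x ∈ fourGroup a b ha hb hab ↔ x = 1 ∨ x = a ∨ x = b ∨ x = a * b := Iff.rfl

/-! ### `EM` -/

section em

variable {F : Type*} [Field F] {m : ℕ}

theorem sie_sq [CharP F 2] (S : Multiplicative (sym m F)) : sie m F S * sie m F S = 1 := by
  rw [← map_mul]
  have h : S * S = 1 := by
    apply Multiplicative.toAdd.injective
    apply Subtype.ext
    ext i j
    exact CharTwo.add_self_eq_zero _
  rw [h, map_one]

theorem em_sp [CharP F 2] : EM (symplecticGroup (Fin m) F) := by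
  refine em_iff.2 ⟨(sie m F).range, ?_, ?_⟩
  · rintro _ ⟨S, rfl⟩
    exact sie_sq S
  · intro t ht
    obtain ⟨S, hS⟩ := exists_siegel (sq_of_orderOf ht)
    obtain ⟨g, hg⟩ := isConj_iff.1 hS
    exact ⟨g, by rw [hg]; exact ⟨_, rfl⟩⟩

/-- in characteristic two the centre of the symplectic group is trivial -/
noncomputable def pspIso [CharP F 2] [Fintype F] (hm : 1 ≤ m) : Cfsg.PSp m F ≃* symplecticGroup (Fin m) F :=
  (QuotientGroup.quotientMulEquivOfEq (Cfsg.Agent.ClassicalGeometry.Sp4GraphAut.center_eq_bot (F := F) hm)).trans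
    QuotientGroup.quotientBot

end em

/-! ### central extensions: squares of products -/

section prods

variable {L : Type*} [Group L]

/-- the square of a product of two elements commuting up to a central element -/
theorem sq_mul {x y c : L} (hc : ∀ g, g * c = c * g) (h : y * x = c * (x * y)) :
    (x * y) * (x * y) = c * ((x * x) * (y * y)) := by
  calc (x * y) * (x * y) = x * (y * x) * y := by group
    _ = (x * c) * (x * y) * y := by rw [h]; group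
    _ = c * ((x * x) * (y * y)) := by rw [hc x]; group

theorem comm_mul {x y z c d : L} (hc : ∀ g, g * c = c * g) (hd : ∀ g, g * d = d * g) (h1 : y * x = c * (x * y))
    (h2 : z * x = d * (x * z)) : (y * z) * x = (c * d) * (x * (y * z)) := by
  calc (y * z) * x = y * (z * x) := by group
    _ = (y * d) * (x * z) := by rw [h2]; group
    _ = d * (y * x) * z := by rw [hd y]; group
    _ = (d * c) * (x * y) * z := by rw [h1]; group
    _ = (c * d) * (x * (y * z)) := by rw [hd c]; group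

/-- from the squares of two elements and of their product -/
theorem comm_of_sq {x y p r : L} (hp : ∀ g, g * p = p * g) (hpp : p * p = 1) (hr : ∀ g, g * r = r * g)
    (hx : x * x = p) (hy : y * y = p) (hxy : (x * y) * (x * y) = r) : y * x = r * (x * y) := by
  have hpi : p⁻¹ = p := inv_eq_of_mul_eq_one_left hpp
  have hxi : x⁻¹ = p * x := by
    apply inv_eq_of_mul_eq_one_left
    rw [mul_assoc, hx, hpp]
  have hyi : y⁻¹ = p * y := by
    apply inv_eq_of_mul_eq_one_left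
    rw [mul_assoc, hy, hpp]
  calc y * x = x⁻¹ * ((x * y) * (x * y)) * y⁻¹ := by group
    _ = r * (x⁻¹ * y⁻¹) := by rw [hxy, hr x⁻¹]; group
    _ = r * ((p * x) * (p * y)) := by rw [hxi, hyi]
    _ = r * (p * (x * p) * y) := by group
    _ = r * ((p * p) * (x * y)) := by rw [hp x]; group
    _ = r * (x * y) := by rw [hpp, one_mul]

/-- the square of a product of three elements -/
theorem sq_three {x y z p r : L} (hp : ∀ g, g * p = p * g) (hpp : p * p = 1) (hr : ∀ g, g * r = r * g)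
    (hrr : r * r = 1) (hx : x * x = p) (hy : y * y = p) (hz : z * z = p) (hxy : y * x = r * (x * y))
    (hxz : z * x = r * (x * z)) (hyz : z * y = r * (y * z)) : (x * (y * z)) * (x * (y * z)) = p * r := by
  have h1 : (y * z) * (y * z) = r := by rw [sq_mul hr hyz, hy, hz, hpp, mul_one]
  have h2 : (y * z) * x = (r * r) * (x * (y * z)) := comm_mul hr hr hxy hxz
  have h3 : ∀ g, g * (r * r) = (r * r) * g := by intro g; rw [hrr, mul_one, one_mul]
  rw [sq_mul h3 h2, hrr, one_mul, hx, h1]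

/-- the square of a product of four elements -/
theorem sq_four {w x y z p r : L} (hp : ∀ g, g * p = p * g) (hpp : p * p = 1) (hr : ∀ g, g * r = r * g)
    (hrr : r * r = 1) (hw : w * w = p) (hx : x * x = p) (hy : y * y = p) (hz : z * z = p)
    (hwx : x * w = r * (w * x)) (hwy : y * w = r * (w * y)) (hwz : z * w = r * (w * z)) (hxy : y * x = r * (x * y))
    (hxz : z * x = r * (x * z)) (hyz : z * y = r * (y * z)) : (w * (x * (y * z))) * (w * (x * (y * z))) = 1 := by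
  have h1 := sq_three hp hpp hr hrr hx hy hz hxy hxz hyz
  have h2 : (y * z) * w = (r * r) * (w * (y * z)) := comm_mul hr hr hwy hwz
  have h3 : ∀ g, g * (r * r) = (r * r) * g := by intro g; rw [hrr, mul_one, one_mul]
  have h4 : (x * (y * z)) * w = (r * (r * r)) * (w * (x * (y * z))) := comm_mul hr h3 hwx h2
  rw [hrr, mul_one] at h4
  rw [sq_mul hr h4, hw, h1, ← mul_assoc p p r, hpp, one_mul, hrr]

end prods

/-! ### `Sp₆(2)` -/

/-- matrices -/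
abbrev M3 := Matrix (Fin 3) (Fin 3) (ZMod 2)

/-- invertible matrices and their inverses -/
def prs : List (M3 × M3) := [
  (!![0, 0, 1; 0, 1, 0; 1, 0, 0], !![0, 0, 1; 0, 1, 0; 1, 0, 0]),
  (!![0, 0, 1; 0, 1, 0; 1, 0, 1], !![1, 0, 1; 0, 1, 0; 1, 0, 0]),
  (!![0, 0, 1; 0, 1, 1; 1, 1, 0], !![1, 1, 1; 1, 1, 0; 1, 0, 0]),
  (!![0, 0, 1; 0, 1, 1; 1, 1, 1], !![0, 1, 1; 1, 1, 0; 1, 0, 0]),
  (!![0, 1, 0; 1, 1, 0; 0, 0, 1], !![1, 1, 0; 1, 0, 0; 0, 0, 1]),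
  (!![1, 0, 0; 0, 0, 1; 0, 1, 1], !![1, 0, 0; 0, 1, 1; 0, 1, 0]),
  (!![0, 0, 1; 1, 1, 1; 0, 1, 0], !![1, 1, 1; 0, 0, 1; 1, 0, 0]),
  (!![0, 1, 1; 0, 0, 1; 1, 0, 1], !![0, 1, 1; 1, 1, 0; 0, 1, 0]),
  (!![0, 0, 1; 1, 0, 0; 1, 1, 0], !![0, 1, 0; 0, 1, 1; 1, 0, 0]),
  (!![0, 0, 1; 1, 0, 1; 1, 1, 1], !![1, 1, 0; 0, 1, 1; 1, 0, 0]),
  (!![0, 0, 1; 1, 1, 1; 1, 0, 0], !![0, 0, 1; 1, 1, 1; 1, 0, 0]),
  (!![0, 1, 0; 0, 1, 1; 1, 0, 0], !![0, 0, 1; 1, 0, 0; 1, 1, 0]),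
  (!![0, 1, 0; 0, 1, 1; 1, 0, 1], !![1, 1, 1; 1, 0, 0; 1, 1, 0]),
  (!![0, 1, 0; 0, 1, 1; 1, 1, 0], !![1, 0, 1; 1, 0, 0; 1, 1, 0]),
  (!![0, 1, 0; 0, 1, 1; 1, 1, 1], !![0, 1, 1; 1, 0, 0; 1, 1, 0]),
  (!![1, 0, 0; 1, 0, 1; 0, 1, 0], !![1, 0, 0; 0, 0, 1; 1, 1, 0]),
  (!![1, 0, 0; 1, 0, 1; 0, 1, 1], !![1, 0, 0; 1, 1, 1; 1, 1, 0]),
  (!![1, 0, 1; 1, 1, 0; 0, 0, 1], !![1, 0, 1; 1, 1, 1; 0, 0, 1]),
  (!![0, 0, 1; 1, 0, 0; 0, 1, 0], !![0, 1, 0; 0, 0, 1; 1, 0, 0]),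
  (!![0, 0, 1; 1, 0, 1; 0, 1, 1], !![1, 1, 0; 1, 0, 1; 1, 0, 0]),
  (!![0, 1, 0; 1, 0, 0; 0, 0, 1], !![0, 1, 0; 1, 0, 0; 0, 0, 1]),
  (!![0, 1, 0; 1, 0, 0; 1, 1, 1], !![0, 1, 0; 1, 0, 0; 1, 1, 1]),
  (!![0, 1, 0; 1, 0, 1; 1, 1, 0], !![1, 0, 1; 1, 0, 0; 1, 1, 1]),
  (!![0, 1, 0; 1, 1, 0; 1, 1, 1], !![1, 1, 0; 1, 0, 0; 0, 1, 1]),
  (!![0, 1, 1; 1, 0, 0; 1, 1, 0], !![0, 1, 0; 0, 1, 1; 1, 1, 1]),
  (!![0, 1, 1; 1, 0, 1; 1, 1, 1], !![1, 0, 1; 0, 1, 1; 1, 1, 1]),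
  (!![0, 1, 1; 1, 1, 0; 1, 1, 1], !![1, 0, 1; 1, 1, 1; 0, 1, 1]),
  (!![1, 0, 0; 1, 0, 1; 1, 1, 0], !![1, 0, 0; 1, 0, 1; 1, 1, 0]),
  (!![1, 0, 0; 1, 0, 1; 1, 1, 1], !![1, 0, 0; 0, 1, 1; 1, 1, 0]),
  (!![1, 0, 0; 1, 1, 0; 1, 1, 1], !![1, 0, 0; 1, 1, 0; 0, 1, 1]),
  (!![1, 0, 1; 1, 1, 0; 1, 1, 1], !![1, 1, 1; 1, 0, 1; 0, 1, 1])]

/-- the number of the matrix for the symmetric matrix with entries `a b c d e f` -/
def ixs : List ℕ := [0, 0, 0, 10, 7, 0, 11, 3, 6, 6, 2, 2, 26, 1, 14, 17, 4, 25, 1, 3, 4, 4, 12, 22, 5, 9, 3, 7, 23, 9, 13, 19, 5, 18, 30, 5, 20, 0, 11, 5, 15, 1, 28, 2, 15, 1, 14, 21, 17, 8, 29, 3, 4, 8, 12, 10, 16, 24, 27, 7, 16, 6, 13, 2]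

/-- the pair of the symmetric matrix -/
def pr (a b c d e f : ZMod 2) : M3 × M3 :=
  prs.getD (ixs.getD (32 * a.val + 16 * b.val + 8 * c.val + 4 * d.val + 2 * e.val + f.val) 0) (1, 1)

/-- congruence -/
def Cj (S T : M3) : Prop := ∃ A B : M3, A * B = 1 ∧ B * A = 1 ∧ A * S * Aᵀ = T

def b1 : M3 := !![1, 0, 0; 0, 0, 0; 0, 0, 0]
def a2 : M3 := !![0, 1, 0; 1, 0, 0; 0, 0, 0]
def c2 : M3 := !![1, 0, 0; 0, 1, 0; 0, 0, 0]
def b3 : M3 := !![1, 0, 0; 0, 1, 0; 0, 0, 1]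

def T1 : M3 := !![1, 0, 0; 0, 0, 0; 0, 0, 0]
def T2 : M3 := !![0, 0, 0; 0, 1, 0; 0, 0, 0]
def T3 : M3 := !![0, 0, 0; 0, 0, 0; 0, 0, 1]
def T12 : M3 := !![1, 1, 0; 1, 1, 0; 0, 0, 0]
def T123 : M3 := !![1, 1, 1; 1, 1, 1; 1, 1, 1]
/-- the alternating matrix -/
def Am : M3 := !![0, 0, 1; 0, 0, 0; 1, 0, 0]
/-- a symmetric matrix -/
def Bm : M3 := !![1, 1, 0; 1, 0, 1; 0, 1, 0]

theorem pr_ok : ∀ a b c d e f : ZMod 2, (pr a b c d e f).1 * (pr a b c d e f).2 = 1 ∧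
    (pr a b c d e f).2 * (pr a b c d e f).1 = 1 := by decide +kernel

theorem pr_rep : ∀ a b c d e f : ZMod 2, (!![a, b, c; b, d, e; c, e, f] : M3) = 0 ∨
    (pr a b c d e f).1 * !![a, b, c; b, d, e; c, e, f] * (pr a b c d e f).1ᵀ = b1 ∨
    (pr a b c d e f).1 * !![a, b, c; b, d, e; c, e, f] * (pr a b c d e f).1ᵀ = a2 ∨
    (pr a b c d e f).1 * !![a, b, c; b, d, e; c, e, f] * (pr a b c d e f).1ᵀ = c2 ∨
    (pr a b c d e f).1 * !![a, b, c; b, d, e; c, e, f] * (pr a b c d e f).1ᵀ = b3 := by decide +kernel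

theorem cj_T1 : Cj (T1) b1 := ⟨!![1, 0, 0; 0, 0, 1; 0, 1, 0], !![1, 0, 0; 0, 0, 1; 0, 1, 0], by decide +kernel, by decide +kernel, by decide +kernel⟩
theorem cj_T2 : Cj (T2) b1 := ⟨!![0, 1, 0; 0, 0, 1; 1, 0, 0], !![0, 0, 1; 1, 0, 0; 0, 1, 0], by decide +kernel, by decide +kernel, by decide +kernel⟩
theorem cj_T3 : Cj (T3) b1 := ⟨!![0, 0, 1; 0, 1, 0; 1, 0, 0], !![0, 0, 1; 0, 1, 0; 1, 0, 0], by decide +kernel, by decide +kernel, by decide +kernel⟩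
theorem cj_T12 : Cj (T12) b1 := ⟨!![0, 1, 0; 0, 0, 1; 1, 1, 0], !![1, 0, 1; 1, 0, 0; 0, 1, 0], by decide +kernel, by decide +kernel, by decide +kernel⟩
theorem cj_T123 : Cj (T123) b1 := ⟨!![0, 0, 1; 0, 1, 1; 1, 0, 1], !![1, 0, 1; 1, 1, 0; 1, 0, 0], by decide +kernel, by decide +kernel, by decide +kernel⟩
theorem cj_T1_T2 : Cj (T1 + T2) c2 := ⟨!![0, 1, 0; 1, 0, 0; 0, 0, 1], !![0, 1, 0; 1, 0, 0; 0, 0, 1], by decide +kernel, by decide +kernel, by decide +kernel⟩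
theorem cj_T1_T3 : Cj (T1 + T3) c2 := ⟨!![0, 0, 1; 1, 0, 0; 0, 1, 0], !![0, 1, 0; 0, 0, 1; 1, 0, 0], by decide +kernel, by decide +kernel, by decide +kernel⟩
theorem cj_T2_T3 : Cj (T2 + T3) c2 := ⟨!![0, 0, 1; 0, 1, 0; 1, 0, 0], !![0, 0, 1; 0, 1, 0; 1, 0, 0], by decide +kernel, by decide +kernel, by decide +kernel⟩
theorem cj_T1_T12 : Cj (T1 + T12) c2 := ⟨!![0, 1, 0; 1, 1, 0; 0, 0, 1], !![1, 1, 0; 1, 0, 0; 0, 0, 1], by decide +kernel, by decide +kernel, by decide +kernel⟩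
theorem cj_T2_T12 : Cj (T2 + T12) c2 := ⟨!![1, 0, 0; 1, 1, 0; 0, 0, 1], !![1, 0, 0; 1, 1, 0; 0, 0, 1], by decide +kernel, by decide +kernel, by decide +kernel⟩
theorem cj_T1_T123 : Cj (T1 + T123) c2 := ⟨!![0, 0, 1; 1, 0, 1; 0, 1, 1], !![1, 1, 0; 1, 0, 1; 1, 0, 0], by decide +kernel, by decide +kernel, by decide +kernel⟩
theorem cj_T2_T123 : Cj (T2 + T123) c2 := ⟨!![0, 0, 1; 0, 1, 1; 1, 0, 1], !![1, 0, 1; 1, 1, 0; 1, 0, 0], by decide +kernel, by decide +kernel, by decide +kernel⟩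
theorem cj_T3_T123 : Cj (T3 + T123) c2 := ⟨!![0, 1, 0; 0, 1, 1; 1, 1, 0], !![1, 0, 1; 1, 0, 0; 1, 1, 0], by decide +kernel, by decide +kernel, by decide +kernel⟩
theorem cj_3 : Cj (T1 + (T2 + T12)) a2 := ⟨!![0, 1, 0; 1, 0, 0; 0, 0, 1], !![0, 1, 0; 1, 0, 0; 0, 0, 1], by decide +kernel, by decide +kernel, by decide +kernel⟩
theorem cj_3b : Cj (T1 + (T2 + T3)) b3 := ⟨!![0, 0, 1; 0, 1, 0; 1, 0, 0], !![0, 0, 1; 0, 1, 0; 1, 0, 0], by decide +kernel, by decide +kernel, by decide +kernel⟩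
theorem cj_4 : Cj (T1 + (T2 + (T3 + T123))) a2 := ⟨!![0, 0, 1; 0, 1, 0; 1, 1, 1], !![1, 1, 1; 0, 1, 0; 1, 0, 0], by decide +kernel, by decide +kernel, by decide +kernel⟩
theorem cj_A : Cj (Am) a2 := ⟨!![0, 0, 1; 1, 0, 0; 0, 1, 0], !![0, 1, 0; 0, 0, 1; 1, 0, 0], by decide +kernel, by decide +kernel, by decide +kernel⟩
theorem cj_B : Cj (Bm) b3 := ⟨!![1, 0, 0; 1, 1, 0; 1, 1, 1], !![1, 0, 0; 1, 1, 0; 0, 1, 1], by decide +kernel, by decide +kernel, by decide +kernel⟩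
theorem cj_AB : Cj (Am + Bm) b3 := ⟨!![1, 0, 0; 1, 0, 1; 1, 1, 0], !![1, 0, 0; 1, 0, 1; 1, 1, 0], by decide +kernel, by decide +kernel, by decide +kernel⟩

/-- every symmetric matrix is congruent to one of the four representatives -/
theorem cj_all {S : M3} (hS : Sᵀ = S) : S = 0 ∨ Cj S b1 ∨ Cj S a2 ∨ Cj S c2 ∨ Cj S b3 := by
  have h : ∀ i j, S j i = S i j := fun i j => congrFun (congrFun hS i) j
  have h1 : S = !![S 0 0, S 0 1, S 0 2; S 0 1, S 1 1, S 1 2; S 0 2, S 1 2, S 2 2] := by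
    ext i j
    fin_cases i <;> fin_cases j
    · rfl
    · rfl
    · rfl
    · exact h 0 1
    · rfl
    · rfl
    · exact h 0 2
    · exact h 1 2
    · rfl
  have h2 := pr_ok (S 0 0) (S 0 1) (S 0 2) (S 1 1) (S 1 2) (S 2 2)
  have h3 := pr_rep (S 0 0) (S 0 1) (S 0 2) (S 1 1) (S 1 2) (S 2 2)
  rw [← h1] at h3
  rcases h3 with h3 | h3 | h3 | h3 | h3
  · exact Or.inl h3
  · exact Or.inr (Or.inl ⟨_, _, h2.1, h2.2, h3⟩)
  · exact Or.inr (Or.inr (Or.inl ⟨_, _, h2.1, h2.2, h3⟩))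
  · exact Or.inr (Or.inr (Or.inr (Or.inl ⟨_, _, h2.1, h2.2, h3⟩)))
  · exact Or.inr (Or.inr (Or.inr (Or.inr ⟨_, _, h2.1, h2.2, h3⟩)))

/-- symmetric matrices as elements of the subgroup -/
def tb1 : sym 3 (ZMod 2) := ⟨b1, by show b1ᵀ = b1; decide +kernel⟩
def ta2 : sym 3 (ZMod 2) := ⟨a2, by show a2ᵀ = a2; decide +kernel⟩
def tc2 : sym 3 (ZMod 2) := ⟨c2, by show c2ᵀ = c2; decide +kernel⟩
def tb3 : sym 3 (ZMod 2) := ⟨b3, by show b3ᵀ = b3; decide +kernel⟩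
def t1 : sym 3 (ZMod 2) := ⟨T1, by show T1ᵀ = T1; decide +kernel⟩
def t2 : sym 3 (ZMod 2) := ⟨T2, by show T2ᵀ = T2; decide +kernel⟩
def t3 : sym 3 (ZMod 2) := ⟨T3, by show T3ᵀ = T3; decide +kernel⟩
def t12 : sym 3 (ZMod 2) := ⟨T12, by show T12ᵀ = T12; decide +kernel⟩
def t123 : sym 3 (ZMod 2) := ⟨T123, by show T123ᵀ = T123; decide +kernel⟩
def tA : sym 3 (ZMod 2) := ⟨Am, by show Amᵀ = Am; decide +kernel⟩
def tB : sym 3 (ZMod 2) := ⟨Bm, by show Bmᵀ = Bm; decide +kernel⟩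

attribute [irreducible] b1 a2 c2 b3 T1 T2 T3 T12 T123 Am Bm

/-- the Siegel element -/
def sg (s : sym 3 (ZMod 2)) : symplecticGroup (Fin 3) (ZMod 2) := sie 3 (ZMod 2) (Multiplicative.ofAdd s)

theorem sg_add (s t : sym 3 (ZMod 2)) : sg (s + t) = sg s * sg t := by
  unfold sg
  rw [ofAdd_add, map_mul]

theorem sg_sq (s : sym 3 (ZMod 2)) : sg s * sg s = 1 := sie_sq _

theorem sg_comm (s t : sym 3 (ZMod 2)) : sg s * sg t = sg t * sg s := by
  rw [← sg_add, ← sg_add, add_comm]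

theorem sg_conj {s t : sym 3 (ZMod 2)} (h : Cj s t) : IsConj (sg s) (sg t) := by
  obtain ⟨A, B, h1, h2, h3⟩ := h
  exact isConj_sie h1 h2 h3.symm

theorem k1 : IsConj (sg t1) (sg tb1) := sg_conj cj_T1
theorem k2 : IsConj (sg t2) (sg tb1) := sg_conj cj_T2
theorem k3 : IsConj (sg t3) (sg tb1) := sg_conj cj_T3
theorem k12 : IsConj (sg t12) (sg tb1) := sg_conj cj_T12
theorem k123 : IsConj (sg t123) (sg tb1) := sg_conj cj_T123
theorem c12 : IsConj (sg (t1 + t2)) (sg tc2) := sg_conj cj_T1_T2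
theorem c13 : IsConj (sg (t1 + t3)) (sg tc2) := sg_conj cj_T1_T3
theorem c23 : IsConj (sg (t2 + t3)) (sg tc2) := sg_conj cj_T2_T3
theorem c1_12 : IsConj (sg (t1 + t12)) (sg tc2) := sg_conj cj_T1_T12
theorem c2_12 : IsConj (sg (t2 + t12)) (sg tc2) := sg_conj cj_T2_T12
theorem c1_123 : IsConj (sg (t1 + t123)) (sg tc2) := sg_conj cj_T1_T123
theorem c2_123 : IsConj (sg (t2 + t123)) (sg tc2) := sg_conj cj_T2_T123
theorem c3_123 : IsConj (sg (t3 + t123)) (sg tc2) := sg_conj cj_T3_T123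
theorem d3 : IsConj (sg (t1 + (t2 + t12))) (sg ta2) := sg_conj cj_3
theorem d3b : IsConj (sg (t1 + (t2 + t3))) (sg tb3) := sg_conj cj_3b
theorem d4 : IsConj (sg (t1 + (t2 + (t3 + t123)))) (sg ta2) := sg_conj cj_4
theorem kA : IsConj (sg tA) (sg ta2) := sg_conj cj_A
theorem kB : IsConj (sg tB) (sg tb3) := sg_conj cj_B
theorem kAB : IsConj (sg (tA + tB)) (sg tb3) := sg_conj cj_AB

theorem classes {t : symplecticGroup (Fin 3) (ZMod 2)} (ht : orderOf t = 2) :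
    IsConj t (sg tb1) ∨ IsConj t (sg ta2) ∨ IsConj t (sg tc2) ∨ IsConj t (sg tb3) := by
  obtain ⟨S, hS⟩ := exists_siegel (sq_of_orderOf ht)
  have hS' : IsConj t (sg S) := hS
  rcases cj_all S.2 with h | h | h | h | h
  · exfalso
    have h0 : S = 0 := Subtype.ext h
    have h1 : sg S = 1 := by
      rw [h0]
      exact map_one _
    rw [h1] at hS'
    have h2 := isConj_one_left.1 hS'
    exact ne_one_of_orderOf ht h2
  · exact Or.inl (hS'.trans (sg_conj (t := tb1) h))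
  · exact Or.inr (Or.inl (hS'.trans (sg_conj (t := ta2) h)))
  · exact Or.inr (Or.inr (Or.inl (hS'.trans (sg_conj (t := tc2) h))))
  · exact Or.inr (Or.inr (Or.inr (hS'.trans (sg_conj (t := tb3) h))))

attribute [irreducible] sg

/-- **Covers of `Sp₆(2)`** with kernel of exponent two. -/
theorem em_cover_six {L : Type*} [Group L] {π : L →* symplecticGroup (Fin 3) (ZMod 2)} (hs : Function.Surjective π)
    (hc : π.ker ≤ center L) (h2 : ∀ z ∈ π.ker, z * z = 1) : EM L := by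
  obtain ⟨x1, hx1⟩ := hs (sg t1)
  obtain ⟨x2, hx2⟩ := hs (sg t2)
  obtain ⟨x3, hx3⟩ := hs (sg t3)
  obtain ⟨x12, hx12⟩ := hs (sg t12)
  obtain ⟨x123, hx123⟩ := hs (sg t123)
  obtain ⟨p, hp⟩ : ∃ p, p = x1 * x1 := ⟨_, rfl⟩
  obtain ⟨r, hr⟩ : ∃ r, r = (x1 * x2) * (x1 * x2) := ⟨_, rfl⟩
  have hpk : p ∈ π.ker := by rw [hp, MonoidHom.mem_ker, map_mul, hx1, sg_sq]
  have hrk : r ∈ π.ker := by rw [hr, MonoidHom.mem_ker, map_mul, map_mul, hx1, hx2, ← sg_add, sg_sq]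
  have hpc : ∀ g, g * p = p * g := fun g => mem_center_iff.1 (hc hpk) g
  have hrc : ∀ g, g * r = r * g := fun g => mem_center_iff.1 (hc hrk) g
  have hpp := h2 p hpk
  have hrr := h2 r hrk
  have s1 : x1 * x1 = p := hp.symm
  have s2 : x2 * x2 = p := (sq_lift_eq hs hc h2 (sg_sq _) (k2.trans k1.symm) hx2 hx1).trans s1
  have s3 : x3 * x3 = p := (sq_lift_eq hs hc h2 (sg_sq _) (k3.trans k1.symm) hx3 hx1).trans s1
  have s12 : x12 * x12 = p := (sq_lift_eq hs hc h2 (sg_sq _) (k12.trans k1.symm) hx12 hx1).trans s1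
  have s123 : x123 * x123 = p := (sq_lift_eq hs hc h2 (sg_sq _) (k123.trans k1.symm) hx123 hx1).trans s1
  -- the class `c₂`
  have key : ∀ (s t : sym 3 (ZMod 2)) (x y : L), IsConj (sg (s + t)) (sg tc2) → π x = sg s → π y = sg t →
      x * x = p → y * y = p → y * x = r * (x * y) := by
    intro s t x y h hx hy hxx hyy
    refine comm_of_sq hpc hpp hrc hxx hyy ?_
    rw [hr]
    exact sq_lift_eq hs hc h2 (sg_sq (s + t)) (h.trans c12.symm) (by rw [map_mul, hx, hy, sg_add])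
      (by rw [map_mul, hx1, hx2, sg_add])
  have r12 := key t1 t2 x1 x2 c12 hx1 hx2 s1 s2
  have r13 := key t1 t3 x1 x3 c13 hx1 hx3 s1 s3
  have r23 := key t2 t3 x2 x3 c23 hx2 hx3 s2 s3
  have r1_12 := key t1 t12 x1 x12 c1_12 hx1 hx12 s1 s12
  have r2_12 := key t2 t12 x2 x12 c2_12 hx2 hx12 s2 s12
  have r1_123 := key t1 t123 x1 x123 c1_123 hx1 hx123 s1 s123
  have r2_123 := key t2 t123 x2 x123 c2_123 hx2 hx123 s2 s123
  have r3_123 := key t3 t123 x3 x123 c3_123 hx3 hx123 s3 s123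
  -- `a₂` lifts
  have q4 := sq_four hpc hpp hrc hrr s1 s2 s3 s123 r12 r13 r1_123 r23 r2_123 r3_123
  have la2 : Lft π (sg ta2) := by
    have h : Lft π (sg (t1 + (t2 + (t3 + t123)))) :=
      ⟨_, by rw [map_mul, map_mul, map_mul, hx1, hx2, hx3, hx123, ← sg_add, ← sg_add, ← sg_add], q4⟩
    exact h.isConj hs d4
  have q3 := sq_three hpc hpp hrc hrr s1 s2 s12 r12 r1_12 r2_12
  have hpr : p * r = 1 := by
    rw [← q3]
    have h : Lft π (sg (t1 + (t2 + t12))) := la2.isConj hs d3.symm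
    exact h.all hc h2 (by rw [map_mul, map_mul, hx1, hx2, hx12, ← sg_add, ← sg_add])
  have q3b := sq_three hpc hpp hrc hrr s1 s2 s3 r12 r13 r23
  have lb3 : Lft π (sg tb3) := by
    have h : Lft π (sg (t1 + (t2 + t3))) :=
      ⟨x1 * (x2 * x3), by rw [map_mul, map_mul, hx1, hx2, hx3, ← sg_add, ← sg_add], by rw [q3b, hpr]⟩
    exact h.isConj hs d3b
  by_cases hp1 : p = 1
  · have hr1 : r = 1 := by rw [hp1, one_mul] at hpr; exact hpr
    have lb1 : Lft π (sg tb1) := Lft.isConj hs ⟨x1, hx1, by rw [s1, hp1]⟩ k1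
    have lc2 : Lft π (sg tc2) :=
      Lft.isConj hs ⟨x1 * x2, by rw [map_mul, hx1, hx2, sg_add], by rw [← hr, hr1]⟩ c12
    refine em_of_all_lift hs hc h2 (fun t ht => ?_) em_sp
    rcases classes ht with h | h | h | h
    · exact lb1.isConj hs h.symm
    · exact la2.isConj hs h.symm
    · exact lc2.isConj hs h.symm
    · exact lb3.isConj hs h.symm
  · have nb1 : ¬ Lft π (sg tb1) := fun h => hp1 (by
      rw [← s1]
      exact (h.isConj hs k1.symm).all hc h2 hx1)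
    have nc2 : ¬ Lft π (sg tc2) := fun h => hp1 (by
      have h3 : r = 1 := by
        rw [hr]
        exact (h.isConj hs c12.symm).all hc h2 (by rw [map_mul, hx1, hx2, sg_add])
      rw [h3, mul_one] at hpr
      exact hpr)
    refine em_of_lift hs hc h2 (fourGroup (sg tA) (sg tB) (sg_sq _) (sg_sq _) (sg_comm _ _)) ?_ ?_
    · intro e he
      rcases mem_fourGroup.1 he with rfl | rfl | rfl | rfl
      · exact Lft.one
      · exact la2.isConj hs kA.symm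
      · exact lb3.isConj hs kB.symm
      · rw [← sg_add]
        exact lb3.isConj hs kAB.symm
    · intro t ht hl
      rcases classes ht with h | h | h | h
      · exact absurd (hl.isConj hs h) nb1
      · obtain ⟨g, hg⟩ := isConj_iff.1 (h.trans kA.symm)
        exact ⟨g, by rw [hg]; exact mem_fourGroup.2 (Or.inr (Or.inl rfl))⟩
      · exact absurd (hl.isConj hs h) nc2
      · obtain ⟨g, hg⟩ := isConj_iff.1 (h.trans kB.symm)
        exact ⟨g, by rw [hg]; exact mem_fourGroup.2 (Or.inr (Or.inr (Or.inl rfl)))⟩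

/-- `Sp₆(2)` -/
theorem crow_six : CRow (Cfsg.PSp 3 (ZMod 2)) := by
  have hexp : ExpTwo (Cfsg.PSp 3 (ZMod 2)) :=
    expTwo_of_cyclic (Cfsg.Agent.S2093.result (F := ZMod 2) (ZMod.card 2)) (by norm_num)
  intro L _ _ π hπ h2
  have e : Cfsg.PSp 3 (ZMod 2) ≃* symplecticGroup (Fin 3) (ZMod 2) := pspIso (by norm_num)
  have hπ' : PCE (e.toMonoidHom.comp π) := hπ.congr e
  refine em_cover_six hπ'.surj hπ'.cen fun z hz => ?_
  refine hexp L π hπ h2 z ?_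
  rw [MonoidHom.mem_ker] at hz ⊢
  exact (MulEquiv.map_eq_one_iff e).1 hz

/-- **S2243, the row of `PSp_{2m}(q)`, `q` even.** -/
theorem crow_psp_even {L : Type u} [Group L] {F : Type} [Field F] [Fintype F]
    (hF : Even (Fintype.card F)) {m : ℕ} (hm : 2 ≤ m) (h2 : m = 2 → 3 ≤ Fintype.card F) (e : L ≃* Cfsg.PSp m F) :
    CRow L := by
  have h2c : ringChar F = 2 := (FiniteField.even_card_iff_char_two (F := F)).2 (Nat.even_iff.1 hF)
  haveI : CharP F 2 := by rw [← h2c]; infer_instance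
  refine CRow.congr e ?_
  by_cases hexc : m = 3 ∧ Fintype.card F = 2
  · obtain ⟨rfl, h3⟩ := hexc
    exact CRow.congr (Cfsg.Agent.LieClassical.FieldTransfer.pspCongr 3
      (ZMod.ringEquivOfPrime F Nat.prime_two h3).symm) crow_six
  · refine CRow.of_noCov (noCov_of_cyclic (Cfsg.Agent.S2092.result rfl m hm h2 hexc) ?_)
      (EM.congr (pspIso (by omega)) em_sp)
    have h4 : 2 ≤ Fintype.card F := Fintype.one_lt_card
    have h5 : Odd (Fintype.card F - 1) := Nat.Even.sub_odd (by omega) hF odd_one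
    exact Odd.of_dvd_nat h5 (Nat.gcd_dvd_right _ _)

end Cfsg.Agent.H682.EM
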